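import Groth.Agent.RPushQC.Main
import Groth.Prelude.Def_LocCohZ

/-!
Local cohomology sheaves of quasi-coherent modules along the complement of a quasi-compact open immersion
are quasi-coherent.
-/

universe u

open CategoryTheory Category Limits Opposite TopologicalSpace AlgebraicGeometry

set_option backward.isDefEq.respectTransparency false

noncomputable section

namespace Groth.Agent.LCZQC

open Groth.Agent.QC Groth.Agent.RPushQC

variable {U Y : Scheme.{u}}

/-- The homology of the push-forward of a flasque resolution of a quasi-coherent module is quasi-coherent. -/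
theorem isQCoh_homology_push (f : U ⟶ Y) [QuasiCompact f] [QuasiSeparated f]
    (I : CochainComplex U.Modules ℕ) (hex : ∀ m, I.ExactAt (m + 1)) (hI : ∀ n, RPushQC.IsFlasque (I.X n))
    (hq : Coh.IsQCoh (I.cycles 0)) (p : ℕ) :
    Coh.IsQCoh ((((Scheme.Modules.pushforward f).mapHomologicalComplex (ComplexShape.up ℕ)).obj I).homology p) := by
  let P := ((Scheme.Modules.pushforward f).mapHomologicalComplex (ComplexShape.up ℕ)).obj I
  refine QC.isQCoh_of_local fun x => ?_
  obtain ⟨V, hV, hxV⟩ := QC.exists_affine_mem x
  let r := Scheme.Modules.restrictFunctor V.ι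
  have : r.PreservesHomology := Functor.preservesHomologyOfExact r
  refine ⟨V.toScheme, V.ι, inferInstance, ⟨⟨x, hxV⟩, rfl⟩, ?_⟩
  refine QC.isQCoh_of_iso ?_ (qp_top f V I hV hex hI hq p)
  exact (HomologicalComplex.homologyFunctor _ _ p).mapIso
    ((NatIso.mapHomologicalComplex (topIso f V) (ComplexShape.up ℕ)).app I).symm ≪≫
    (P.sc p).mapHomologyIso r

variable (j : U ⟶ Y) [IsOpenImmersion j]

theorem unit_epi (I : Y.Modules) (hI : RPushQC.IsFlasque I) :
    Epi ((Scheme.Modules.restrictAdjunction j).unit.app I) := by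
  have : ∀ W, Function.Surjective (((Scheme.Modules.restrictAdjunction j).unit.app I).app W) := fun W => by
    rw [Scheme.Modules.restrictAdjunction_unit_app_app]
    exact hI (j.image_preimage_le W)
  refine (Scheme.Modules.toPresheaf Y).epi_of_epi_map ?_
  have : ∀ W, Epi (((Scheme.Modules.toPresheaf Y).map
      ((Scheme.Modules.restrictAdjunction j).unit.app I)).app W) := fun W =>
    (AddCommGrpCat.epi_iff_surjective _).mpr (this W.unop)
  exact NatTrans.epi_of_epi_app _

abbrev T : Y.Modules ⥤ Y.Modules := Scheme.Modules.restrictFunctor j ⋙ Scheme.Modules.pushforward j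

variable (I : CochainComplex Y.Modules ℕ)

def seq : ShortComplex (CochainComplex Y.Modules ℕ) where
  X₁ := ((DCoh.gammaZ j).mapHomologicalComplex (ComplexShape.up ℕ)).obj I
  X₂ := I
  X₃ := ((T j).mapHomologicalComplex (ComplexShape.up ℕ)).obj I
  f := { f := fun n => kernel.ι ((Scheme.Modules.restrictAdjunction j).unit.app (I.X n))
         comm' := fun m n _ => by
          simp [DCoh.gammaZ] }
  g := { f := fun n => (Scheme.Modules.restrictAdjunction j).unit.app (I.X n)
         comm' := fun m n _ => ((Scheme.Modules.restrictAdjunction j).unit.naturality (I.d m n)).symm }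
  zero := by
    ext n : 1
    exact kernel.condition _

theorem seq_shortExact (hI : ∀ n, RPushQC.IsFlasque (I.X n)) : (seq j I).ShortExact :=
  HomologicalComplex.shortExact_of_degreewise_shortExact _ fun n => by
    have := unit_epi j (I.X n) (hI n)
    exact
      { exact := ShortComplex.exact_of_f_is_kernel _
          (kernelIsKernel ((Scheme.Modules.restrictAdjunction j).unit.app (I.X n)))
        mono_f := inferInstanceAs (Mono (kernel.ι ((Scheme.Modules.restrictAdjunction j).unit.app (I.X n))))
        epi_g := this }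

theorem isQCoh_homology_gamma [QuasiCompact j] (hex : ∀ m, I.ExactAt (m + 1))
    (hI : ∀ n, RPushQC.IsFlasque (I.X n)) (hq : Coh.IsQCoh (I.cycles 0)) (q : ℕ) :
    Coh.IsQCoh ((((DCoh.gammaZ j).mapHomologicalComplex (ComplexShape.up ℕ)).obj I).homology q) := by
  have hS := seq_shortExact j I hI
  have hK : ∀ p, Coh.IsQCoh ((seq j I).X₂.homology p) := fun p => by
    cases p with
    | zero => exact QC.isQCoh_of_iso (I.isoHomologyπ₀) hq
    | succ m => exact RPushQC.isQCoh_of_isZero ((hex m).isZero_homology) hq
  have hr : (Scheme.Modules.restrictFunctor j).PreservesHomology :=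
    Functor.preservesHomologyOfExact _
  have hT : ∀ p, Coh.IsQCoh ((seq j I).X₃.homology p) := fun p =>
    isQCoh_homology_push j (((Scheme.Modules.restrictFunctor j).mapHomologicalComplex _).obj I)
      (fun m => (HomologicalComplex.exactAt_iff _ (m + 1)).mpr
        (((HomologicalComplex.exactAt_iff I (m + 1)).mp (hex m)).map (Scheme.Modules.restrictFunctor j)))
      (fun n => isFlasque_restrict (hI n) j)
      (QC.isQCoh_of_iso ((I.sc 0).mapCyclesIso (Scheme.Modules.restrictFunctor j)).symm
        (QC.isQCoh_restrict j hq)) p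
  cases q with
  | zero =>
    have : Mono ((seq j I).f.f 0) :=
      inferInstanceAs (Mono (kernel.ι ((Scheme.Modules.restrictAdjunction j).unit.app (I.X 0))))
    have : Mono (HomologicalComplex.cyclesMap (seq j I).f 0) :=
      mono_of_mono_fac (HomologicalComplex.cyclesMap_i (seq j I).f 0)
    have hm : Mono (HomologicalComplex.homologyMap (seq j I).f 0) := by
      have e : HomologicalComplex.homologyMap (seq j I).f 0 = (seq j I).X₁.isoHomologyπ₀.inv ≫
          HomologicalComplex.cyclesMap (seq j I).f 0 ≫ (seq j I).X₂.homologyπ 0 := by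
        rw [← HomologicalComplex.homologyπ_naturality, ← Category.assoc]
        exact ((congrArg (· ≫ _) (seq j I).X₁.isoHomologyπ₀.inv_hom_id).trans (id_comp _)).symm
      rw [e]
      have : IsIso ((seq j I).X₂.homologyπ 0) := inferInstanceAs (IsIso (seq j I).X₂.isoHomologyπ₀.hom)
      infer_instance
    exact QC.isQCoh_of_iso
      (IsLimit.conePointUniqueUpToIso (kernelIsKernel _)
        (hS.homology_exact₂ 0).fIsKernel)
      (QC.isQCoh_kernel (hK 0) (hT 0) _)
  | succ m =>
    have hrel : (ComplexShape.up ℕ).Rel m (m + 1) := rfl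
    cases m with
    | zero =>
      have he : Epi (hS.δ 0 1 hrel) := (hS.homology_exact₁ 0 1 hrel).epi_f (by
        exact (hex 0).isZero_homology.eq_of_tgt _ _)
      exact QC.isQCoh_of_iso
        (IsColimit.coconePointUniqueUpToIso (cokernelIsCokernel _)
          (hS.homology_exact₃ 0 1 hrel).gIsCokernel)
        (QC.isQCoh_cokernel (hK 0) (hT 0) _)
    | succ k =>
      have h1 : IsIso (hS.δ (k + 1) (k + 2) hrel) :=
        hS.isIso_δ _ _ hrel (hex k).isZero_homology (hex (k + 1)).isZero_homology
      exact QC.isQCoh_of_iso (asIso (hS.δ (k + 1) (k + 2) hrel)) (hT (k + 1))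

theorem isQCoh_HZshM [QuasiCompact j] [HasInjectiveResolutions Y.Modules] (M : Y.Modules)
    (hM : Coh.IsQCoh M) (q : ℕ) : Coh.IsQCoh ((LocCohZ.HZshM j q).obj M) := by
  let R := injectiveResolution M
  exact QC.isQCoh_of_iso (R.isoRightDerivedObj (DCoh.gammaZ j) q).symm
    (isQCoh_homology_gamma j R.cocomplex R.cocomplex_exactAt_succ
      (fun n => isFlasque_of_injective _)
      (QC.isQCoh_of_iso (IsLimit.conePointUniqueUpToIso R.isLimitKernelFork
        (R.cocomplex.cyclesIsKernel 0 1 (by simp))) hM) q)

end Groth.Agent.LCZQC
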