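import Groth.Agent.CmpSite.Shift
import Groth.Agent.RDerLib.LES

/-!
A resolution by acyclic objects computes the right derived functors.
-/

set_option autoImplicit false
set_option backward.isDefEq.respectTransparency false
set_option backward.isDefEq.respectTransparency.types false

universe v v' u u'

open CategoryTheory Category Limits HomologicalComplex

namespace Groth.Agent.LCZQC

open Groth.Agent.CmpSite

variable {A : Type u} [Category.{v} A] [Abelian A] [HasInjectiveResolutions A]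
  {B : Type u'} [Category.{v'} B] [Abelian B] (Φ : A ⥤ B) [Φ.Additive] [PreservesFiniteLimits Φ]

theorem acyc_shift {S : ShortComplex A} (hS : S.ShortExact) (p : ℕ)
    (h₂ : ∀ q, IsZero ((Φ.rightDerived (q + 1)).obj S.X₂)) :
    Nonempty ((Φ.rightDerived (p + 2)).obj S.X₁ ≅ (Φ.rightDerived (p + 1)).obj S.X₃) := by
  let T := RDerLib.res hS
  have hm : Mono (T.delta Φ (p + 1) (p + 2) rfl) :=
    (RDerLib.exact₃ Φ T (p + 1) (p + 2) rfl).mono_g ((h₂ p).eq_of_src _ _)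
  have he : Epi (T.delta Φ (p + 1) (p + 2) rfl) :=
    (RDerLib.exact₁ Φ T (p + 1) (p + 2) rfl).epi_f ((h₂ (p + 1)).eq_of_tgt _ _)
  have : IsIso (T.delta Φ (p + 1) (p + 2) rfl) := isIso_of_mono_of_epi _
  exact ⟨(asIso (T.delta Φ (p + 1) (p + 2) rfl)).symm⟩

theorem acyc_one {S : ShortComplex A} (hS : S.ShortExact)
    (h₂ : ∀ q, IsZero ((Φ.rightDerived (q + 1)).obj S.X₂)) :
    Nonempty ((Φ.rightDerived 1).obj S.X₁ ≅ cokernel (Φ.map S.g)) := by
  let T := RDerLib.res hS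
  have he : Epi (T.delta Φ 0 1 rfl) :=
    (RDerLib.exact₁ Φ T 0 1 rfl).epi_f ((h₂ 0).eq_of_tgt _ _)
  exact ⟨IsColimit.coconePointUniqueUpToIso (RDerLib.exact₃ Φ T 0 1 rfl).gIsCokernel (cokernelIsCokernel _) ≪≫
    cokernel.mapIso _ _ (Φ.rightDerivedZeroIsoSelf.app S.X₂) (Φ.rightDerivedZeroIsoSelf.app S.X₃)
      (Φ.rightDerivedZeroIsoSelf.hom.naturality S.g)⟩

variable (K : CochainComplex A ℕ) (hex : ∀ i, K.ExactAt (i + 1))
  (hK : ∀ i q, IsZero ((Φ.rightDerived (q + 1)).obj (K.X i)))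

include hex hK

theorem acyc_cycles (j : ℕ) (p : ℕ) :
    Nonempty ((Φ.rightDerived (p + 1)).obj (K.cycles j) ≅ (Φ.rightDerived (p + 1 + j)).obj (K.cycles 0)) := by
  induction j generalizing p with
  | zero => exact ⟨Iso.refl _⟩
  | succ j ih =>
    have hz : IsZero (K.homology (j + 1)) := (exactAt_iff_isZero_homology _ _).1 (hex j)
    haveI : IsIso (kernel.ι (K.homologyπ (j + 1))) :=
      haveI : Epi (kernel.ι (K.homologyπ (j + 1))) :=
        (homologySeq_shortExact K j).exact.epi_f (hz.eq_of_tgt _ _)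
      isIso_of_mono_of_epi _
    obtain ⟨e₁⟩ := acyc_shift Φ (cyclesSeq_shortExact K j) p (hK j)
    obtain ⟨e₂⟩ := ih (p + 1)
    exact ⟨(Φ.rightDerived (p + 1)).mapIso (asIso (kernel.ι (K.homologyπ (j + 1)))).symm ≪≫ e₁.symm ≪≫ e₂ ≪≫
      eqToIso (by rw [show p + 1 + 1 + j = p + 1 + (j + 1) by omega])⟩

theorem acyc_homology (i : ℕ) : Nonempty ((mapCx Φ K).homology i ≅ (Φ.rightDerived i).obj (K.cycles 0)) := by
  cases i with
  | zero =>
    haveI := (mapCx Φ K).isIso_homologyπ _ 0 rfl ((mapCx Φ K).shape _ _ (by simp))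
    exact ⟨(asIso ((mapCx Φ K).homologyπ 0)).symm ≪≫ mapCycles Φ K 0 ≪≫
      (Φ.rightDerivedZeroIsoSelf.app _).symm⟩
  | succ j =>
    obtain ⟨e₁⟩ := kernel_cmp_iso Φ K j
    obtain ⟨e₂⟩ := acyc_one Φ (cyclesSeq_shortExact K j) (hK j)
    obtain ⟨e₃⟩ := acyc_cycles Φ K hex hK j 0
    have hz : cmp Φ K (j + 1) = 0 :=
      (Φ.map_isZero ((exactAt_iff_isZero_homology _ _).1 (hex j))).eq_of_tgt _ _
    exact ⟨(kernelZeroIsoSource).symm ≪≫ (kernelIsoOfEq hz).symm ≪≫ e₁ ≪≫ e₂.symm ≪≫ e₃ ≪≫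
      eqToIso (by rw [show 0 + 1 + j = j + 1 by omega])⟩

end Groth.Agent.LCZQC
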