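import Groth.Agent.LCZQC.Acyclic
import Groth.Agent.LCZQC.Main
import Groth.Agent.LCZ.RestrAdj
import Groth.Agent.LCZ.Scheme
import Groth.Agent.CohQC.RpushModules
import Groth.Agent.DQCoh.Serre
import Groth.Agent.DerPush.Basic
import Groth.Prelude.Def_SuppFam

/-!
Local cohomology sheaves with supports in a locally closed subset: acyclicity of flasque sheaves and
quasi-coherence.
-/

universe u

open CategoryTheory Category Limits Opposite TopologicalSpace AlgebraicGeometry

set_option backward.isDefEq.respectTransparency false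

noncomputable section

namespace Groth.Agent.LCZQC

open Groth.Agent.LCZ

section Space

variable {X : TopCat.{u}}

instance preservesFiniteLimits_restrFunctor (V : Opens X) : PreservesFiniteLimits (CohTop.restrFunctor V) :=
  ((((CohTop.restrFunctor V).exact_tfae).out 0 3).mp
    (fun _ h => SiteCoh.restrFunctor_shortExact V h) :
      PreservesFiniteLimits (CohTop.restrFunctor V) ∧ PreservesFiniteColimits (CohTop.restrFunctor V)).1

instance preservesFiniteLimits_sectSuppF (U : Opens X) : PreservesFiniteLimits (LocCohZ.sectSuppF U) := by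
  apply ((Functor.preservesFiniteLimits_tfae (LocCohZ.sectSuppF U)).out 2 3).mp
  intro A B f
  refine preservesLimit_of_preserves_limit_cone (kernelIsKernel f) ?_
  apply (KernelFork.isLimitMapConeEquiv _ (LocCohZ.sectSuppF U)).2
  haveI : Mono ((LocCohZ.sectSuppF U).map (kernel.ι f)) := by
    have : Mono (suppι U (kernel f) ≫ kernel.ι f) := mono_comp _ _
    rw [← sectSuppF_map_suppι] at this
    exact mono_of_mono _ (suppι U A)
  refine @KernelFork.IsLimit.ofι' _ _ _ _ _ _ _ ((LocCohZ.sectSuppF U).map (kernel.ι f))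
    (by rw [← Functor.map_comp, kernel.condition, Functor.map_zero]) (fun {T} k hk => ?_)
    ‹Mono ((LocCohZ.sectSuppF U).map (kernel.ι f))›
  have hk' : (k ≫ suppι U A) ≫ f = 0 := by
    rw [Category.assoc, ← sectSuppF_map_suppι, ← Category.assoc, hk, zero_comp]
  let a : T ⟶ kernel f := kernel.lift f _ hk'
  have : Mono ((CohTop.push (CohCx.incl U)).map ((CohTop.pull (CohCx.incl U)).map (kernel.ι f))) := by
    have : Mono ((CohTop.pull (CohCx.incl U)).map (kernel.ι f)) := inferInstance
    have : (CohTop.push (CohCx.incl U)).IsRightAdjoint :=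
      (TopCat.Sheaf.pullbackPushforwardAdjunction AddCommGrpCat.{u} (CohCx.incl U)).isRightAdjoint
    infer_instance
  have ha : a ≫ unit U (kernel f) = 0 := by
    rw [← cancel_mono ((CohTop.push (CohCx.incl U)).map ((CohTop.pull (CohCx.incl U)).map (kernel.ι f))),
      zero_comp, Category.assoc]
    refine (congrArg (a ≫ ·) ((TopCat.Sheaf.pullbackPushforwardAdjunction AddCommGrpCat.{u}
      (CohCx.incl U)).unit.naturality (kernel.ι f)).symm).trans ?_
    rw [Functor.id_map, ← Category.assoc, kernel.lift_ι, Category.assoc]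
    exact (congrArg (k ≫ ·) (kernel.condition (unit U A))).trans comp_zero
  refine ⟨kernel.lift (unit U (kernel f)) a ha, ?_⟩
  rw [← cancel_mono (suppι U A), Category.assoc, sectSuppF_map_suppι, ← Category.assoc, kernel.lift_ι,
    kernel.lift_ι]

theorem sectSupp_surjective (U : Opens X) {S : ShortComplex (CohTop.Ab X)} (hS : S.ShortExact)
    [TopCat.Sheaf.IsFlasque S.X₁] (O : Opens X) :
    Function.Surjective (((LocCohZ.sectSuppF U).map S.g).hom.app (op O)) := by
  intro s
  obtain ⟨t, ht⟩ := (AddCommGrpCat.epi_iff_surjective _).mp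
    (TopCat.Sheaf.IsFlasque.epi_of_shortExact (U := O) hS) ((suppι U S.X₃).hom.app (op O) s)
  have hT := hS.mono_f
  let F := sheafToPresheaf (Opens.grothendieckTopology X) AddCommGrpCat.{u} ⋙
    (CategoryTheory.evaluation _ _).obj (op (O ⊓ U))
  have hsec := (ShortComplex.ab_exact_iff _).1
    (hS.exact.map_of_mono_of_preservesKernel F inferInstance inferInstance)
  obtain ⟨f₀, hf₀⟩ := hsec (res S.X₂ (inf_le_left : O ⊓ U ≤ O) t)
    ((app_res S.g _ t).trans ((congrArg _ ht).trans (res_suppι U S.X₃ s)))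
  obtain ⟨f₁, hf₁⟩ := res_surjective S.X₁ (inf_le_left : O ⊓ U ≤ O) f₀
  obtain ⟨r, hr⟩ := exists_suppι U (F := S.X₂) (s := t - S.f.hom.app (op O) f₁) (by
    rw [map_sub, ← app_res, hf₁, sub_eq_zero]
    exact hf₀.symm)
  refine ⟨r, suppι_injective U _ O ?_⟩
  rw [suppι_map_apply, hr, map_sub, ← ht]
  have h0 : S.g.hom.app (op O) (S.f.hom.app (op O) f₁) = 0 :=
    congrArg (fun φ : S.X₁ ⟶ S.X₃ => φ.hom.app (op O) f₁) S.zero
  rw [h0, sub_zero]

theorem isFlasque_restr (V : Opens X) (F : CohTop.Ab X) [TopCat.Sheaf.IsFlasque F] :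
    TopCat.Sheaf.IsFlasque ((CohTop.restrFunctor V).obj F) :=
  (epi_res_iff _).2 fun O O' h => res_surjective F
    ((V.isOpenEmbedding.isOpenMap.functor.map (homOfLE h)).le)

variable {W V : Opens X} (h : W ≤ V)

instance preservesFiniteLimits_sectSuppLC : PreservesFiniteLimits (SuppFam.sectSuppLC h) := by
  have : PreservesFiniteLimits (CohTop.push (CohCx.incl V)) := by
    have : (CohTop.push (CohCx.incl V)).IsRightAdjoint :=
      (TopCat.Sheaf.pullbackPushforwardAdjunction AddCommGrpCat.{u} (CohCx.incl V)).isRightAdjoint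
    infer_instance
  have : PreservesFiniteLimits (LocCohZ.sectSuppF (SuppFam.inOpen V W)) :=
    preservesFiniteLimits_sectSuppF (X := TopCat.of V) _
  unfold SuppFam.sectSuppLC
  infer_instance

theorem epi_sectSuppLC_map {S : ShortComplex (CohTop.Ab X)} (hS : S.ShortExact)
    [TopCat.Sheaf.IsFlasque S.X₁] : Epi ((SuppFam.sectSuppLC h).map S.g) := by
  refine (Sheaf.isLocallySurjective_iff_epi' _ _).mp ⟨fun {O} s => ?_⟩
  have : TopCat.Sheaf.IsFlasque (S.map (CohTop.restrFunctor V)).X₁ := isFlasque_restr V S.X₁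
  obtain ⟨r, hr⟩ := sectSupp_surjective (SuppFam.inOpen V W) (SiteCoh.restrFunctor_shortExact V hS)
    ((Opens.map (CohCx.incl V)).obj O) s
  rw [Opens.mem_grothendieckTopology]
  intro x hx
  exact ⟨O, 𝟙 O, ⟨r, hr.trans
    (ConcreteCategory.congr_hom (((SuppFam.sectSuppLC h).obj S.X₃).obj.map_id (op O)) s).symm⟩, hx⟩

theorem isZero_HZshLC_of_isFlasque (q : ℕ) : ∀ (F : CohTop.Ab X) [TopCat.Sheaf.IsFlasque F],
    IsZero (((SuppFam.sectSuppLC h).rightDerived (q + 1)).obj F) := by
  induction q with
  | zero =>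
    intro F _
    let S : ShortComplex (CohTop.Ab X) := ShortComplex.mk (Injective.ι F) (cokernel.π _) (cokernel.condition _)
    have hS : S.ShortExact := { exact := ShortComplex.exact_of_g_is_cokernel _ (cokernelIsCokernel _) }
    have : TopCat.Sheaf.IsFlasque S.X₁ := inferInstanceAs (TopCat.Sheaf.IsFlasque F)
    have : Injective S.X₂ := inferInstanceAs (Injective (Injective.under F))
    obtain ⟨e⟩ := CmpSite.rightDerived_one (SuppFam.sectSuppLC h) hS
    have := epi_sectSuppLC_map h hS
    exact (isZero_cokernel_of_epi _).of_iso e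
  | succ q ih =>
    intro F _
    let S : ShortComplex (CohTop.Ab X) := ShortComplex.mk (Injective.ι F) (cokernel.π _) (cokernel.condition _)
    have hS : S.ShortExact := { exact := ShortComplex.exact_of_g_is_cokernel _ (cokernelIsCokernel _) }
    have : TopCat.Sheaf.IsFlasque S.X₁ := inferInstanceAs (TopCat.Sheaf.IsFlasque F)
    have : Injective S.X₂ := inferInstanceAs (Injective (Injective.under F))
    have : TopCat.Sheaf.IsFlasque S.X₂ := SiteCoh.injective_isFlasque _
    have : TopCat.Sheaf.IsFlasque S.X₃ := TopCat.Sheaf.IsFlasque.of_shortExact_of_isFlasque₁₂ hS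
    obtain ⟨e⟩ := CmpSite.rightDerived_shift (SuppFam.sectSuppLC h) hS q
    exact (ih S.X₃).of_iso e

end Space

section Modules

variable {Z Y : Scheme.{u}} (k : Y ⟶ Z) [IsOpenImmersion k] (U : Z.Opens) (hU : k.opensRange = U)

theorem unit_app_zero_of (N : Z.Modules) {O : Z.Opens} (s : Γ(N, O)) (h : res (X := Z.carrier) (Coh.toAb N) (inf_le_left : O ⊓ U ≤ O) s = 0)
    (hU : k.opensRange = U) : ((Scheme.Modules.restrictAdjunction k).unit.app N).app O s = 0 := by
  rw [Scheme.Modules.restrictAdjunction_unit_app_app]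
  have hle : k ''ᵁ (k ⁻¹ᵁ O) ≤ O ⊓ U := le_inf (k.image_preimage_le O) (hU ▸ k.image_le_opensRange _)
  exact ((res_res (X := Z.carrier) (Coh.toAb N) (inf_le_left : O ⊓ U ≤ O) hle s).symm.trans
    ((congrArg _ h).trans (map_zero _)))

theorem res_zero_of_unit (N : Z.Modules) {O : Z.Opens} (s : Γ(N, O))
    (h : ((Scheme.Modules.restrictAdjunction k).unit.app N).app O s = 0)
    (hU : k.opensRange = U) : res (X := Z.carrier) (Coh.toAb N) (inf_le_left : O ⊓ U ≤ O) s = 0 := by
  rw [Scheme.Modules.restrictAdjunction_unit_app_app] at h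
  have hle : O ⊓ U ≤ k ''ᵁ (k ⁻¹ᵁ O) := by
    rw [Scheme.Hom.image_preimage_eq_opensRange_inf, hU, inf_comm]
  exact ((res_res (X := Z.carrier) (Coh.toAb N) (k.image_preimage_le O) hle s).symm.trans
    ((congrArg _ h).trans (map_zero _)))

/-- Sections with supports of a module and of its abelian sheaf agree. -/
def gammaToAbIso : DCoh.gammaZ k ⋙ SheafOfModules.toSheaf Z.ringCatSheaf ≅
    SheafOfModules.toSheaf Z.ringCatSheaf ⋙ LocCohZ.sectSuppF (X := Z.carrier) U :=
  NatIso.ofComponents (fun N =>
    let T := SheafOfModules.toSheaf Z.ringCatSheaf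
    have : PreservesFiniteLimits T := inferInstance
    have : Mono (T.map (kernel.ι ((Scheme.Modules.restrictAdjunction k).unit.app N))) := inferInstance
    have h1 : T.map (kernel.ι ((Scheme.Modules.restrictAdjunction k).unit.app N)) ≫
        unit (X := Z.carrier) U (Coh.toAb N) = 0 := by
      refine CategoryTheory.Sheaf.hom_ext (NatTrans.ext (funext fun O => ?_))
      ext t
      exact (unit_app_eq_zero_iff (X := Z.carrier) U (Coh.toAb N) O.unop _).2 (res_zero_of_unit k U N _
        (congrArg (fun φ : kernel ((Scheme.Modules.restrictAdjunction k).unit.app N) ⟶ _ => φ.app O.unop t)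
          (kernel.condition ((Scheme.Modules.restrictAdjunction k).unit.app N))) hU)
    have h2 : suppι (X := Z.carrier) U (Coh.toAb N) ≫
        T.map ((Scheme.Modules.restrictAdjunction k).unit.app N) = 0 := by
      refine CategoryTheory.Sheaf.hom_ext (NatTrans.ext (funext fun O => ?_))
      ext t
      exact unit_app_zero_of k U N _ (res_suppι (X := Z.carrier) U (Coh.toAb N) t) hU
    let l := KernelFork.IsLimit.lift' (KernelFork.mapIsLimit _ (kernelIsKernel
      ((Scheme.Modules.restrictAdjunction k).unit.app N)) T) (suppι (X := Z.carrier) U (Coh.toAb N)) h2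
    { hom := kernel.lift _ _ h1
      inv := l.1
      hom_inv_id := by
        rw [← cancel_mono (T.map (kernel.ι ((Scheme.Modules.restrictAdjunction k).unit.app N))), Category.assoc,
          Category.id_comp]
        exact (congrArg (_ ≫ ·) l.2).trans (kernel.lift_ι _ _ _)
      inv_hom_id := by
        rw [← cancel_mono (suppι (X := Z.carrier) U (Coh.toAb N)), Category.assoc, Category.id_comp]
        exact (congrArg (l.1 ≫ ·) (kernel.lift_ι _ _ _)).trans l.2 })
    (fun {N N'} φ => by
      rw [← cancel_mono (suppι (X := Z.carrier) U (Coh.toAb N'))]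
      dsimp [DCoh.gammaZ]
      simp only [Category.assoc, kernel.lift_ι]
      rw [sectSuppF_map_suppι, ← Category.assoc, kernel.lift_ι, ← Functor.map_comp, ← Functor.map_comp,
        kernel.lift_ι])

end Modules

variable (Y : Scheme.{u}) {V₂ V₁ : Y.Opens} (h : V₂ ≤ V₁)

/-- The module avatar of sections with supports in `V₁ ∖ V₂`. -/
abbrev modLC : Y.Modules ⥤ Y.Modules :=
  Scheme.Modules.restrictFunctor V₁.ι ⋙ DCoh.gammaZ (Y.homOfLE h) ⋙ Scheme.Modules.pushforward V₁.ι

/-- The module avatar computes `sectSuppLC`. -/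
def modLCIso : modLC Y h ⋙ SheafOfModules.toSheaf Y.ringCatSheaf ≅
    SheafOfModules.toSheaf Y.ringCatSheaf ⋙ SuppFam.sectSuppLC (X := Y.carrier) h :=
  let R := Scheme.Modules.restrictFunctor V₁.ι
  let G := DCoh.gammaZ (Y.homOfLE h)
  let P := CohTop.push (X := TopCat.of V₁) (CohCx.incl (X := Y.carrier) V₁)
  let S := LocCohZ.sectSuppF (X := V₁.toScheme.carrier) (SuppFam.inOpen (X := Y.carrier) V₁ V₂)
  let T' := SheafOfModules.toSheaf V₁.toScheme.ringCatSheaf
  have eP : Scheme.Modules.pushforward V₁.ι ⋙ SheafOfModules.toSheaf Y.ringCatSheaf = T' ⋙ P := rfl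
  have eR : R ⋙ T' = SheafOfModules.toSheaf Y.ringCatSheaf ⋙ CohTop.restrFunctor (X := Y.carrier) V₁ := rfl
  Functor.associator _ _ _ ≪≫ Functor.isoWhiskerLeft R (Functor.associator _ _ _ ≪≫
      Functor.isoWhiskerLeft G (eqToIso eP) ≪≫ (Functor.associator _ _ _).symm ≪≫
      Functor.isoWhiskerRight (gammaToAbIso (Y.homOfLE h) (SuppFam.inOpen (X := Y.carrier) V₁ V₂)
        (Scheme.opensRange_homOfLE h)) P ≪≫ Functor.associator _ _ _) ≪≫
    (Functor.associator R T' (S ⋙ P)).symm ≪≫ Functor.isoWhiskerRight (eqToIso eR) (S ⋙ P) ≪≫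
    Functor.associator _ _ _

theorem exists_isQCoh_iso_HZshLC [QuasiCompact V₁.ι] [QuasiCompact V₂.ι] (F : Y.Modules)
    (hF : Coh.IsQCoh F) (i : ℕ) :
    ∃ M : Y.Modules, Coh.IsQCoh M ∧
      Nonempty (Coh.toAb M ≅ (SuppFam.HZshLC (X := Y.carrier) h i).obj (Coh.toAb F)) := by
  haveI : HasInjectiveResolutions Y.Modules := inferInstance
  let R := injectiveResolution F
  let I := R.cocomplex
  let T := SheafOfModules.toSheaf Y.ringCatSheaf
  have : PreservesFiniteLimits T := inferInstance
  have : PreservesFiniteColimits T := CohQC.toSheaf_preservesFiniteColimits Y.ringCatSheaf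
  have : T.Additive := inferInstance
  have : T.PreservesHomology := Functor.preservesHomologyOfExact T
  let k := Y.homOfLE h
  let j := V₁.ι
  have hI : ∀ n, RPushQC.IsFlasque (I.X n) := fun n => RPushQC.isFlasque_of_injective _
  have hq : Coh.IsQCoh (I.cycles 0) :=
    QC.isQCoh_of_iso (IsLimit.conePointUniqueUpToIso R.isLimitKernelFork
      (R.cocomplex.cyclesIsKernel 0 1 (by simp))) hF
  have hexR : ∀ {Z' Z : Scheme.{u}} (g : Z' ⟶ Z) [IsOpenImmersion g] (L : CochainComplex Z.Modules ℕ),
      (∀ m, L.ExactAt (m + 1)) →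
      ∀ m, (((Scheme.Modules.restrictFunctor g).mapHomologicalComplex (ComplexShape.up ℕ)).obj L).ExactAt (m + 1) := by
    intro Z' Z g _ L hL m
    have : (Scheme.Modules.restrictFunctor g).PreservesHomology := Functor.preservesHomologyOfExact _
    exact (HomologicalComplex.exactAt_iff _ (m + 1)).mpr
      (((HomologicalComplex.exactAt_iff L (m + 1)).mp (hL m)).map (Scheme.Modules.restrictFunctor g))
  have hqR : ∀ {Z' Z : Scheme.{u}} (g : Z' ⟶ Z) [IsOpenImmersion g] (L : CochainComplex Z.Modules ℕ),
      Coh.IsQCoh (L.cycles 0) →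
      Coh.IsQCoh ((((Scheme.Modules.restrictFunctor g).mapHomologicalComplex (ComplexShape.up ℕ)).obj L).cycles 0) := by
    intro Z' Z g _ L hL
    have : (Scheme.Modules.restrictFunctor g).PreservesHomology := Functor.preservesHomologyOfExact _
    exact QC.isQCoh_of_iso ((L.sc 0).mapCyclesIso (Scheme.Modules.restrictFunctor g)).symm
      (QC.isQCoh_restrict g hL)
  let K := ((Scheme.Modules.restrictFunctor j).mapHomologicalComplex (ComplexShape.up ℕ)).obj I
  let L := ((Scheme.Modules.restrictFunctor k).mapHomologicalComplex (ComplexShape.up ℕ)).obj K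
  have hK : ∀ n, RPushQC.IsFlasque (K.X n) := fun n => RPushQC.isFlasque_restrict (hI n) j
  let P := (Scheme.Modules.pushforward j).mapHomologicalComplex (ComplexShape.up ℕ)
  have : (Scheme.Modules.pushforward j).IsRightAdjoint :=
    (Scheme.Modules.restrictAdjunction j).isRightAdjoint
  let S := (seq k K).map P
  have hS : S.ShortExact := HomologicalComplex.shortExact_of_degreewise_shortExact _ fun n => by
    have hkk : IsLimit (KernelFork.ofι (kernel.ι ((Scheme.Modules.restrictAdjunction k).unit.app (K.X n)))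
        (kernel.condition _)) := kernelIsKernel _
    refine
      { exact := ShortComplex.exact_of_f_is_kernel _
          (KernelFork.mapIsLimit _ hkk (Scheme.Modules.pushforward j))
        mono_f := inferInstanceAs (Mono ((Scheme.Modules.pushforward j).map
          (kernel.ι ((Scheme.Modules.restrictAdjunction k).unit.app (K.X n)))))
        epi_g := ?_ }
    have hsurj : ∀ W : Y.Opens, Function.Surjective (((Scheme.Modules.restrictAdjunction k).unit.app (K.X n)).app (j ⁻¹ᵁ W)) := fun W => by
      rw [Scheme.Modules.restrictAdjunction_unit_app_app]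
      exact hK n (k.image_preimage_le _)
    refine (Scheme.Modules.toPresheaf Y).epi_of_epi_map ?_
    have : ∀ W, Epi (((Scheme.Modules.toPresheaf Y).map ((Scheme.Modules.pushforward j).map
        ((Scheme.Modules.restrictAdjunction k).unit.app (K.X n)))).app W) := fun W =>
      (AddCommGrpCat.epi_iff_surjective _).mpr (hsurj W.unop)
    exact @NatTrans.epi_of_epi_app _ _ _ _ _ _ _ this
  have hk : QuasiCompact (k ≫ j) := by rw [Scheme.homOfLE_ι]; infer_instance
  have h2 : ∀ p, Coh.IsQCoh (S.X₂.homology p) := fun p =>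
    isQCoh_homology_push j K (hexR j I R.cocomplex_exactAt_succ) hK (hqR j I hq) p
  have h3 : ∀ p, Coh.IsQCoh (S.X₃.homology p) := fun p =>
    QC.isQCoh_of_iso ((HomologicalComplex.homologyFunctor _ _ p).mapIso
      ((NatIso.mapHomologicalComplex (Scheme.Modules.pushforwardComp k j) (ComplexShape.up ℕ)).app L).symm)
      (isQCoh_homology_push (k ≫ j) L (hexR k K (hexR j I R.cocomplex_exactAt_succ))
        (fun n => RPushQC.isFlasque_restrict (hK n) k) (hqR k K (hqR j I hq)) p)
  have h1 : Coh.IsQCoh (S.X₁.homology i) := by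
    cases i with
    | zero =>
      refine QC.isQCoh_of_iso ?_ (QC.isQCoh_kernel (h2 0) (h3 0) (HomologicalComplex.homologyMap S.g 0))
      have : Mono (HomologicalComplex.homologyMap S.f 0) := by
        have : Mono (S.f.f 0) := (hS.map_of_exact (HomologicalComplex.eval Y.Modules (ComplexShape.up ℕ) 0)).mono_f
        have : Mono (HomologicalComplex.cyclesMap S.f 0) :=
          mono_of_mono_fac (HomologicalComplex.cyclesMap_i S.f 0)
        have e : HomologicalComplex.homologyMap S.f 0 = (CochainComplex.isoHomologyπ₀ S.X₁).inv ≫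
            HomologicalComplex.cyclesMap S.f 0 ≫ S.X₂.homologyπ 0 := by
          rw [← HomologicalComplex.homologyπ_naturality, ← Category.assoc]
          exact ((congrArg (· ≫ _) (CochainComplex.isoHomologyπ₀ S.X₁).inv_hom_id).trans (id_comp _)).symm
        rw [e]
        have : IsIso (S.X₂.homologyπ 0) := inferInstanceAs (IsIso (CochainComplex.isoHomologyπ₀ S.X₂).hom)
        infer_instance
      exact IsLimit.conePointUniqueUpToIso (kernelIsKernel _) (hS.homology_exact₂ 0).fIsKernel
    | succ m =>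
      exact DQCoh.isQCoh_of_exact₅ _ _ _ _ _ _ _ (hS.homology_exact₃ m (m + 1) rfl)
        (hS.homology_exact₁ m (m + 1) rfl) (hS.homology_exact₂ (m + 1)) (h2 m) (h3 m) (h2 (m + 1)) (h3 (m + 1))
  refine ⟨_, h1, ?_⟩
  let A := (T.mapHomologicalComplex (ComplexShape.up ℕ)).obj I
  have hexA : ∀ m, A.ExactAt (m + 1) := fun m =>
    (HomologicalComplex.exactAt_iff A (m + 1)).mpr
      (((HomologicalComplex.exactAt_iff I (m + 1)).mp (R.cocomplex_exactAt_succ m)).map T)
  obtain ⟨e⟩ := acyc_homology (SuppFam.sectSuppLC (X := Y.carrier) h) A hexA (fun n q => by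
    have : TopCat.Sheaf.IsFlasque (A.X n) := RPushQC.isFlasque_toAb (hI n)
    exact isZero_HZshLC_of_isFlasque h q _) i
  let c : T.obj F ≅ A.cycles 0 :=
    T.mapIso (IsLimit.conePointUniqueUpToIso R.isLimitKernelFork
        (R.cocomplex.cyclesIsKernel 0 1 (by simp))) ≪≫ ((R.cocomplex.sc 0).mapCyclesIso T).symm
  exact ⟨((S.X₁.sc i).mapHomologyIso T).symm ≪≫
    (HomologicalComplex.homologyFunctor _ _ i).mapIso
      ((NatIso.mapHomologicalComplex (modLCIso Y h) (ComplexShape.up ℕ)).app I) ≪≫ e ≪≫
    ((SuppFam.HZshLC (X := Y.carrier) h i).mapIso c).symm⟩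

end Groth.Agent.LCZQC
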